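import Cfsg.Agent.H888.U33.TLe
import Cfsg.Agent.H863.U33.Dat
import Cfsg.Agent.H604.U33.Coprime

/-!
# S5525, part F, piece L6: `T ≤ P` (helper888)
-/

set_option autoImplicit false

namespace Cfsg.Agent.H888.U33

open Cfsg.Agent.H863.U33

/-- commutators of a group generated by `S`, modulo a normalised subgroup -/
theorem comm_mem_of_gens {G : Type*} [Group G] (S : Set G) (U : Subgroup G)
    (hn : ∀ g ∈ Subgroup.closure S, ∀ p ∈ U, g * p * g⁻¹ ∈ U)
    (hc : ∀ s ∈ S, ∀ s' ∈ S, s * s' * s⁻¹ * s'⁻¹ ∈ U) :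
    ∀ g ∈ Subgroup.closure S, ∀ h ∈ Subgroup.closure S, g * h * g⁻¹ * h⁻¹ ∈ U := by
  have key : ∀ s : G, (∀ s' ∈ S, s' * s * s'⁻¹ * s⁻¹ ∈ U) →
      ∀ g ∈ Subgroup.closure S, g * s * g⁻¹ * s⁻¹ ∈ U := by
    intro s h0 g hg
    induction hg using Subgroup.closure_induction with
    | mem x hx => exact h0 x hx
    | one => simp [one_mem]
    | mul a b ha hb iha ihb =>
      have h1 := mul_mem (hn a ha _ ihb) iha
      have h2 : a * b * s * (a * b)⁻¹ * s⁻¹ = a * (b * s * b⁻¹ * s⁻¹) * a⁻¹ * (a * s * a⁻¹ * s⁻¹) := by group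
      rw [h2]; exact h1
    | inv a ha iha =>
      have h1 := hn a⁻¹ (inv_mem ha) _ (inv_mem iha)
      have h2 : a⁻¹ * s * a⁻¹⁻¹ * s⁻¹ = a⁻¹ * (a * s * a⁻¹ * s⁻¹)⁻¹ * a⁻¹⁻¹ := by group
      rw [h2]; exact h1
  intro g hg h hh
  refine key h ?_ g hg
  intro s hs
  have h1 := inv_mem (key s (fun s' hs' => hc s' hs' s hs) h hh)
  have h2 : s * h * s⁻¹ * h⁻¹ = (h * s * h⁻¹ * s⁻¹)⁻¹ := by group
  rw [h2]; exact h1

/-- squares of a group generated by `S`, modulo a normalised subgroup -/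
theorem sq_mem_of_gens {G : Type*} [Group G] (S : Set G) (U : Subgroup G)
    (hn : ∀ g ∈ Subgroup.closure S, ∀ p ∈ U, g * p * g⁻¹ ∈ U)
    (hc : ∀ s ∈ S, ∀ s' ∈ S, s * s' * s⁻¹ * s'⁻¹ ∈ U) (hs : ∀ s ∈ S, s * s ∈ U) :
    ∀ g ∈ Subgroup.closure S, g * g ∈ U := by
  intro g hg
  induction hg using Subgroup.closure_induction with
  | mem x hx => exact hs x hx
  | one => simp [one_mem]
  | mul a b ha hb iha ihb =>
    have h1 := comm_mem_of_gens S U hn hc a⁻¹ (inv_mem ha) b hb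
    have h2 : a * b * (a * b) = a * a * (a⁻¹ * b * a⁻¹⁻¹ * b⁻¹) * (b * b) := by group
    rw [h2]
    exact mul_mem (mul_mem iha h1) ihb
  | inv a ha iha =>
    have h2 : a⁻¹ * a⁻¹ = (a * a)⁻¹ := by group
    rw [h2]; exact inv_mem iha

section

variable {G : Type} [Group G] {y : G} {e : Fin 8 → G} {t : G} {w : Fin 6 → G} {k : Fin 2 → G} {n : G}

theorem PP_le_UU : PP y e ≤ UU y e t := Subgroup.closure_mono Set.subset_union_left

theorem UU_le_OO : UU y e t ≤ OO y e t w := Subgroup.closure_mono Set.subset_union_left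

theorem y_mem_PP : y ∈ PP y e := Subgroup.subset_closure (Or.inl rfl)

theorem e_mem_PP (j : Fin 8) : e j ∈ PP y e := Subgroup.subset_closure (Or.inr ⟨j, rfl⟩)

theorem t_mem_UU : t ∈ UU y e t := Subgroup.subset_closure (Or.inr rfl)

theorem OO_le_cent (h : TB y e t w k n) : OO y e t w ≤ Subgroup.centralizer {y} := by
  rw [OO, Subgroup.closure_le]
  rintro g (((hg | ⟨j, rfl⟩) | hg) | ⟨a, rfl⟩)
  · rw [Set.mem_singleton_iff] at hg
    subst hg
    exact Subgroup.mem_centralizer_singleton_iff.2 rfl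
  · exact Subgroup.mem_centralizer_singleton_iff.2 (h.ey j)
  · rw [Set.mem_singleton_iff] at hg
    subst hg
    exact Subgroup.mem_centralizer_singleton_iff.2 h.ty
  · exact Subgroup.mem_centralizer_singleton_iff.2 (h.wy a)

theorem zpowers_three {y z : G} (hy : y ^ 3 = 1) (hz : z ∈ Subgroup.zpowers y) :
    z = 1 ∨ z = y ∨ z = y⁻¹ := by
  obtain ⟨m, rfl⟩ := hz
  have h0 : y ^ (3 : ℤ) = 1 := by exact_mod_cast hy
  have h1 : ∀ m : ℤ, y ^ m = y ^ (m % 3) := by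
    intro m
    conv_lhs => rw [← Int.emod_add_mul_ediv m 3, zpow_add, zpow_mul, h0, one_zpow, mul_one]
  have h2 : m % 3 = 0 ∨ m % 3 = 1 ∨ m % 3 = 2 := by omega
  change y ^ m = 1 ∨ y ^ m = y ∨ y ^ m = y⁻¹
  rw [h1 m]
  rcases h2 with h | h | h
  · left; rw [h, zpow_zero]
  · right; left; rw [h, zpow_one]
  · right; right
    rw [h]
    have : y ^ (2 : ℤ) * y = 1 := by rw [← zpow_add_one]; exact h0
    exact eq_inv_of_mul_eq_one_left this

end

theorem stT (hNF : StNF) (hO : StO) (hC : StC) : StT := by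
  intro G _ _ y e t w k n h hcard a b s ha hb hay hby hab hsy hsa hsb
  obtain ⟨-, -, hc3, hc4, hc5⟩ := hC h hcard
  obtain ⟨-, huni, hPcard⟩ := hNF h
  have hOcard := hO h
  have hOx := OO_le_cent h
  -- the normaliser of ⟨y⟩
  have hnorm : ∀ n ∈ Subgroup.normalizer (Subgroup.zpowers y : Set G),
      (n⁻¹)⁻¹ * y * n⁻¹ = y ∨ (n⁻¹)⁻¹ * y * n⁻¹ = y⁻¹ := by
    intro n hn
    have h1 := (Subgroup.mem_normalizer_iff.1 hn y).1 (Subgroup.mem_zpowers y)
    rw [inv_inv]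
    rcases zpowers_three h.y3 h1 with h2 | h2 | h2
    · exfalso
      apply h.y1
      have : n⁻¹ * (n * y * n⁻¹) * n = y := by group
      rw [← this, h2]; group
    · exact Or.inl h2
    · exact Or.inr h2
  have nU : ∀ n ∈ Subgroup.normalizer (Subgroup.zpowers y : Set G), ∀ g ∈ UU y e t, n * g * n⁻¹ ∈ UU y e t := by
    intro n hn g hg
    have h1 := (hc3 n⁻¹ (hnorm n hn)).2.1 g hg
    rwa [inv_inv] at h1
  have nO : ∀ n ∈ Subgroup.normalizer (Subgroup.zpowers y : Set G), ∀ g ∈ OO y e t w,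
      n * g * n⁻¹ ∈ OO y e t w := by
    intro n hn g hg
    have h1 := (hc3 n⁻¹ (hnorm n hn)).2.2 g hg
    rwa [inv_inv] at h1
  -- O normalises U
  have hcent : ∀ g ∈ Subgroup.centralizer {y}, ∀ p ∈ UU y e t, g * p * g⁻¹ ∈ UU y e t := by
    intro g hg p hp
    have hg' := Subgroup.mem_centralizer_singleton_iff.1 hg
    have h1 := (hc3 g⁻¹ (Or.inl (by rw [inv_inv, hg', mul_assoc, mul_inv_cancel, mul_one]))).2.1 p hp
    rwa [inv_inv] at h1
  have hOU : ∀ g ∈ OO y e t w, ∀ p ∈ UU y e t, g * p * g⁻¹ ∈ UU y e t := fun g hg p hp =>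
    hcent g (hOx hg) p hp
  have hgen : ∀ g ∈ ({y} ∪ Set.range e ∪ {t} ∪ Set.range w : Set G), g ∈ UU y e t ∨ ∃ a, g = w a := by
    rintro g (hg | ⟨a, rfl⟩)
    · exact Or.inl (Subgroup.subset_closure hg)
    · exact Or.inr ⟨a, rfl⟩
  have hgenO : ∀ g ∈ ({y} ∪ Set.range e ∪ {t} ∪ Set.range w : Set G), g ∈ OO y e t w := fun g hg =>
    Subgroup.subset_closure hg
  have hcomm : ∀ s ∈ ({y} ∪ Set.range e ∪ {t} ∪ Set.range w : Set G),
      ∀ s' ∈ ({y} ∪ Set.range e ∪ {t} ∪ Set.range w : Set G), s * s' * s⁻¹ * s'⁻¹ ∈ UU y e t := by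
    intro s hs s' hs'
    rcases hgen s hs with h1 | ⟨i, rfl⟩
    · have h2 := mul_mem h1 (hOU s' (hgenO s' hs') s⁻¹ (inv_mem h1))
      rwa [← mul_assoc, ← mul_assoc] at h2
    · rcases hgen s' hs' with h1 | ⟨j, rfl⟩
      · exact mul_mem (hOU _ (hgenO _ hs) s' h1) (inv_mem h1)
      · have h2 : w i * w j * (w i)⁻¹ * (w j)⁻¹ = t ^ (bc i j).val := by
          rw [h.ww i j]; group
        rw [h2]
        exact pow_mem t_mem_UU _
  have hsq : ∀ s ∈ ({y} ∪ Set.range e ∪ {t} ∪ Set.range w : Set G), s * s ∈ UU y e t := by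
    intro s hs
    rcases hgen s hs with h1 | ⟨i, rfl⟩
    · exact mul_mem h1 h1
    · rw [h.w2 i]
      exact pow_mem t_mem_UU _
  have hV1 := comm_mem_of_gens _ (UU y e t) hOU hcomm
  have hV2 := sq_mem_of_gens _ (UU y e t) hOU hcomm hsq
  -- t ≠ 1
  have ht : t ≠ 1 := by
    intro ht
    have h0 := h.te 0
    rw [ht, inv_one, one_mul, mul_one] at h0
    have h1 : e 0 = nf y e ![1, 0, 0, 0, 0, 0, 0, 0] 0 := by
      simp [nf, ZMod.val_one]
    rw [h1] at h0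
    have h2 := (huni _ _ _ _ h0).1
    exact absurd (congrFun h2 0) (by decide)
  have hord : orderOf t = 2 := orderOf_eq_prime (by rw [pow_two]; exact h.t2) ht
  have hidx : (UU y e t).relIndex (OO y e t w) < 81 := by
    have h1 : Nat.card (UU y e t) * (UU y e t).relIndex (OO y e t w) = 3 ^ 9 * 2 ^ 7 := by
      rw [← hOcard, ← Subgroup.relIndex_bot_left (OO y e t w), ← Subgroup.relIndex_bot_left (UU y e t)]
      exact Subgroup.relIndex_mul_relIndex _ _ _ bot_le UU_le_OO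
    have h2 : 3 ^ 9 ∣ Nat.card (UU y e t) := by
      rw [← hPcard]; exact Subgroup.card_dvd_of_le PP_le_UU
    have h3 : 2 ∣ Nat.card (UU y e t) := by
      rw [← hord]; exact Subgroup.orderOf_dvd_natCard _ t_mem_UU
    have h4 : 3 ^ 9 * 2 ∣ Nat.card (UU y e t) :=
      Nat.Coprime.mul_dvd_of_dvd_of_dvd (by norm_num) h2 h3
    obtain ⟨m, hm⟩ := h4
    rw [hm] at h1
    have h5 : m * (UU y e t).relIndex (OO y e t w) = 64 := by
      have : (3 ^ 9 * 2) * (m * (UU y e t).relIndex (OO y e t w)) = (3 ^ 9 * 2) * 64 := by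
        rw [← mul_assoc, h1]; norm_num
      exact Nat.eq_of_mul_eq_mul_left (by norm_num) this
    have h6 : (UU y e t).relIndex (OO y e t w) ∣ 64 := ⟨m, by rw [mul_comm]; exact h5.symm⟩
    have := Nat.le_of_dvd (by norm_num) h6
    omega
  have hcore : Core := by
    intro V _ _ h2 hc a b w ha hb hab hwa hwb
    exact Cfsg.Agent.H604.U33.Coprime.triv h2 hc a b w ha hb hab hwa hwb
  have hrel : Rel y a b s :=
    { y3 := ha, q3 := hb, xy := hay.symm, qx := hby, yq := hab, xw := hsy, yw := hsa, qw := hsb }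
  refine (mem_of_rel hcore hrel (PP y e) (UU y e t) (OO y e t w) PP_le_UU UU_le_OO y_mem_PP hOx nU nO
    hV1 hV2 hidx ?_ ?_).1
  · intro g hg _ hgo
    refine hc4 g hg ?_
    intro p hp
    have hg' := Subgroup.mem_centralizer_singleton_iff.1 hg
    have hgy : g⁻¹ * y * g = y := by
      rw [mul_assoc, ← hg', ← mul_assoc, inv_mul_cancel, one_mul]
    have h1 := (hc3 g (Or.inl hgy)).2.2 p⁻¹ (inv_mem hp)
    have h2 := hgo _ h1
    have h3 : g * (g⁻¹ * p⁻¹ * g) * g⁻¹ * (g⁻¹ * p⁻¹ * g)⁻¹ = p⁻¹ * (g⁻¹ * p * g) := by group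
    rwa [h3] at h2
  · intro g hg hg3
    exact hc5 g hg (by rw [show (9 : ℕ) = 3 * 3 from rfl, pow_mul, hg3, one_pow])

end Cfsg.Agent.H888.U33
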