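import Cfsg.Agent.H819.U33.Trip
import Mathlib.GroupTheory.QuotientGroup.Basic
import Mathlib.GroupTheory.Index
import Mathlib.Algebra.Group.Subgroup.Basic

/-!
# S5525, box F5 (glue): the Sylow 3-subgroup of a `U3(3)` with centre `⟨x⟩` lies in `P` (helper888)
-/

set_option autoImplicit false

namespace Cfsg.Agent.H888.U33

open Cfsg.Agent.H819.U33 (Trip)

/-- The coprime action fact used in the glue (helper604, helper460). -/
def Core : Prop :=
  ∀ (V : Type) [CommGroup V] [Finite V], (∀ v : V, v * v = 1) → Nat.card V < 81 →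
    ∀ a b w : MulAut V, a ^ 3 = 1 → b ^ 3 = 1 → a * b = b * a →
      w⁻¹ * a * w = a ^ 2 * b ^ 2 → w⁻¹ * b * w = a * b ^ 2 → a = 1 ∧ b = 1

variable {G : Type} [Group G]

/-- The `q` of a triple. -/
abbrev tq (u x : G) : G := u⁻¹ * x⁻¹ * u⁻¹ ^ 3 * x⁻¹ * u⁻¹

/-- The `w` of a triple. -/
abbrev tw (u x : G) : G := u * x * u⁻¹ * x⁻¹ * u

/-- The relations of a triple used here. -/
structure Rel (x y q w : G) : Prop where
  y3 : y ^ 3 = 1
  q3 : q ^ 3 = 1
  xy : x * y = y * x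
  qx : q * x = x * q
  yq : q⁻¹ * y * q = y * x
  xw : w⁻¹ * x * w = x⁻¹
  yw : w⁻¹ * y * w = y ^ 2 * q ^ 2
  qw : w⁻¹ * q * w = y * q ^ 2 * x

theorem rel_of_trip {u y x : G} (h : Trip u y x) : Rel x y (tq u x) (tw u x) :=
  ⟨h.y3, h.q3, h.xy, h.qx, h.yq, h.xw, h.yw, h.qw⟩

theorem mem_of_rel (hcore : Core) [Finite G] {x y q w : G} (h : Rel x y q w) (P Q O : Subgroup G)
    (hPQ : P ≤ Q) (_hQO : Q ≤ O) (hxP : x ∈ P)
    (hOx : O ≤ Subgroup.centralizer {x})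
    (nQ : ∀ n ∈ Subgroup.normalizer (Subgroup.zpowers x : Set G), ∀ g ∈ Q, n * g * n⁻¹ ∈ Q)
    (nO : ∀ n ∈ Subgroup.normalizer (Subgroup.zpowers x : Set G), ∀ g ∈ O, n * g * n⁻¹ ∈ O)
    (hV1 : ∀ a ∈ O, ∀ b ∈ O, a * b * a⁻¹ * b⁻¹ ∈ Q) (hV2 : ∀ a ∈ O, a * a ∈ Q)
    (hcard : Q.relIndex O < 81)
    (hker : ∀ k ∈ Subgroup.centralizer {x}, k ^ 3 = 1 → (∀ o ∈ O, k * o * k⁻¹ * o⁻¹ ∈ Q) → k ∈ O)
    (h3 : ∀ k ∈ O, k ^ 3 = 1 → k ∈ P) :
    y ∈ P ∧ q ∈ P := by
  classical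
  set N : Subgroup G := Subgroup.normalizer (Subgroup.zpowers x : Set G) with hN
  have hcN : Subgroup.centralizer {x} ≤ N := by
    intro g hg
    rw [Subgroup.mem_centralizer_singleton_iff] at hg
    rw [hN, Subgroup.mem_normalizer_iff]
    intro z
    have hgx : ∀ z ∈ Subgroup.zpowers x, g * z * g⁻¹ = z := by
      rintro z ⟨k, rfl⟩
      have : Commute g x := hg
      rw [(this.zpow_right k).eq, mul_assoc, mul_inv_cancel, mul_one]
    constructor
    · intro hz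
      rw [hgx z hz]; exact hz
    · intro hz
      have hz' := hgx _ hz
      have : g * z * g⁻¹ = z := by
        have h2 : g⁻¹ * (g * (g * z * g⁻¹) * g⁻¹) * g = g⁻¹ * (g * z * g⁻¹) * g := by rw [hz']
        have h3 : g⁻¹ * (g * (g * z * g⁻¹) * g⁻¹) * g = g * z * g⁻¹ := by group
        have h4 : g⁻¹ * (g * z * g⁻¹) * g = z := by group
        rw [← h3, h2, h4]
      rwa [this] at hz
  have hyC : y ∈ Subgroup.centralizer {x} := by
    rw [Subgroup.mem_centralizer_singleton_iff]; exact h.xy.symm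
  have hqC : q ∈ Subgroup.centralizer {x} := by
    rw [Subgroup.mem_centralizer_singleton_iff]; exact h.qx
  have hxC : x ∈ Subgroup.centralizer {x} := by
    rw [Subgroup.mem_centralizer_singleton_iff]
  have hwN : w ∈ N := by
    have hx1 : w⁻¹ * x * w = x⁻¹ := h.xw
    have key : ∀ z ∈ Subgroup.zpowers x, w⁻¹ * z * w = z⁻¹ := by
      rintro z ⟨k, rfl⟩
      have : (w⁻¹ * x * w) ^ k = w⁻¹ * x ^ k * w := by
        have := map_zpow (MulAut.conj w⁻¹).toMonoidHom x k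
        simpa using this.symm
      change w⁻¹ * x ^ k * w = (x ^ k)⁻¹
      rw [← this, hx1, inv_zpow]
    rw [hN, Subgroup.mem_normalizer_iff]
    intro z
    constructor
    · intro hz
      have h1 := key _ (inv_mem hz)
      rw [inv_inv] at h1
      -- w⁻¹ * z⁻¹ * w = z
      have : w * z * w⁻¹ = z⁻¹ := by
        calc w * z * w⁻¹ = w * (w⁻¹ * z⁻¹ * w) * w⁻¹ := by rw [h1]
          _ = z⁻¹ := by group
      rw [this]; exact inv_mem hz
    · intro hz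
      have h1 := key _ hz
      have : z = (w * z * w⁻¹)⁻¹ := by
        rw [← h1]; group
      rw [this]; exact inv_mem hz
  -- the quotient N / Q
  let Q' : Subgroup N := Q.subgroupOf N
  let O' : Subgroup N := O.subgroupOf N
  have hQ'n : Q'.Normal := ⟨fun g hg n => nQ n.1 n.2 g.1 hg⟩
  have hO'n : O'.Normal := ⟨fun g hg n => nO n.1 n.2 g.1 hg⟩
  have hON : O ≤ N := hOx.trans hcN
  let π : N →* N ⧸ Q' := QuotientGroup.mk' Q'
  let V : Subgroup (N ⧸ Q') := O'.map π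
  have hVn : V.Normal := hO'n.map π (QuotientGroup.mk'_surjective Q')
  have hπ : ∀ g : N, π g = 1 ↔ (g : G) ∈ Q := by
    intro g
    change (QuotientGroup.mk g : N ⧸ Q') = 1 ↔ _
    rw [QuotientGroup.eq_one_iff, Subgroup.mem_subgroupOf]
  have hVc : ∀ a b : V, a * b = b * a := by
    rintro ⟨_, a, ha, rfl⟩ ⟨_, b, hb, rfl⟩
    apply Subtype.ext
    change π a * π b = π b * π a
    have h1 : π (a * b * a⁻¹ * b⁻¹) = 1 := (hπ _).2 (hV1 a.1 ha b.1 hb)
    rw [map_mul, map_mul, map_mul, map_inv, map_inv] at h1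
    calc π a * π b = (π a * π b * (π a)⁻¹ * (π b)⁻¹) * (π b * π a) := by group
      _ = π b * π a := by rw [h1, one_mul]
  let _ : CommGroup V := { (inferInstance : Group V) with mul_comm := hVc }
  have hV2' : ∀ v : V, v * v = 1 := by
    rintro ⟨_, a, ha, rfl⟩
    apply Subtype.ext
    change π a * π a = 1
    rw [← map_mul]
    exact (hπ _).2 (hV2 a.1 ha)
  have hVcard : Nat.card V < 81 := by
    have h1 : Nat.card V = Q'.relIndex O' := by
      have := Subgroup.relIndex_ker (K := O') π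
      rw [QuotientGroup.ker_mk'] at this
      exact this.symm
    rw [h1]
    have h2 : Q'.relIndex O' = Q.relIndex O := by
      change (Q.subgroupOf N).relIndex (O.subgroupOf N) = _
      exact Subgroup.relIndex_subgroupOf hON
    rw [h2]; exact hcard
  let φ : (N ⧸ Q') →* MulAut V := MulAut.conjNormal
  let yN : N := ⟨y, hcN hyC⟩
  let qN : N := ⟨q, hcN hqC⟩
  let xN : N := ⟨x, hcN hxC⟩
  let wN : N := ⟨w, hwN⟩
  have hx0 : π xN = 1 := (hπ _).2 (hPQ hxP)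
  have ey3 : yN ^ 3 = 1 := Subtype.ext h.y3
  have eq3 : qN ^ 3 = 1 := Subtype.ext h.q3
  have eyq : qN⁻¹ * yN * qN = yN * xN := Subtype.ext h.yq
  have eyw : wN⁻¹ * yN * wN = yN ^ 2 * qN ^ 2 := Subtype.ext h.yw
  have eqw : wN⁻¹ * qN * wN = yN * qN ^ 2 * xN := Subtype.ext h.qw
  have res := hcore V hV2' hVcard (φ (π yN)) (φ (π qN)) (φ (π wN))
    (by rw [← map_pow, ← map_pow, ey3, map_one, map_one])
    (by rw [← map_pow, ← map_pow, eq3, map_one, map_one])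
    (by
      rw [← map_mul, ← map_mul, ← map_mul, ← map_mul]
      congr 1
      have h1 : π (qN⁻¹ * yN * qN) = π (yN * xN) := by rw [eyq]
      rw [map_mul _ yN xN, hx0, mul_one, map_mul, map_mul, map_inv] at h1
      calc π yN * π qN = π qN * ((π qN)⁻¹ * π yN * π qN) := by group
        _ = π qN * π yN := by rw [h1])
    (by
      rw [← map_inv, ← map_inv, ← map_mul, ← map_mul, ← map_mul, ← map_mul, eyw,
        map_mul, map_mul, map_pow, map_pow, map_pow, map_pow])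
    (by
      rw [← map_inv, ← map_inv, ← map_mul, ← map_mul, ← map_mul, ← map_mul, eqw,
        map_mul, map_mul, hx0, map_one, mul_one, map_mul, map_mul, map_pow, map_pow])
  have fin : ∀ k : N, (k : G) ∈ Subgroup.centralizer {x} → (k : G) ^ 3 = 1 → φ (π k) = 1 →
      (k : G) ∈ P := by
    intro k hk hk3 hφ
    refine h3 _ (hker _ hk hk3 ?_) hk3
    intro o ho
    have h1 := congrArg (fun f : MulAut V => ((f ⟨π ⟨o, hON ho⟩, ⟨⟨o, hON ho⟩, ho, rfl⟩⟩ : V) : N ⧸ Q')) hφ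
    simp only [MulAut.one_apply] at h1
    change π k * π ⟨o, hON ho⟩ * (π k)⁻¹ = π ⟨o, hON ho⟩ at h1
    have h2 : π (k * ⟨o, hON ho⟩ * k⁻¹ * (⟨o, hON ho⟩ : N)⁻¹) = 1 := by
      rw [map_mul, map_mul, map_mul, map_inv, map_inv, h1, mul_inv_cancel]
    exact (hπ _).1 h2
  exact ⟨fin yN hyC h.y3 res.1, fin qN hqC h.q3 res.2⟩

theorem mem_of_trip (hcore : Core) [Finite G] {u y x : G} (h : Trip u y x) (P Q O : Subgroup G)
    (hPQ : P ≤ Q) (hQO : Q ≤ O) (hxP : x ∈ P)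
    (hOx : O ≤ Subgroup.centralizer {x})
    (nQ : ∀ n ∈ Subgroup.normalizer (Subgroup.zpowers x : Set G), ∀ g ∈ Q, n * g * n⁻¹ ∈ Q)
    (nO : ∀ n ∈ Subgroup.normalizer (Subgroup.zpowers x : Set G), ∀ g ∈ O, n * g * n⁻¹ ∈ O)
    (hV1 : ∀ a ∈ O, ∀ b ∈ O, a * b * a⁻¹ * b⁻¹ ∈ Q) (hV2 : ∀ a ∈ O, a * a ∈ Q)
    (hcard : Q.relIndex O < 81)
    (hker : ∀ k ∈ Subgroup.centralizer {x}, k ^ 3 = 1 → (∀ o ∈ O, k * o * k⁻¹ * o⁻¹ ∈ Q) → k ∈ O)
    (h3 : ∀ k ∈ O, k ^ 3 = 1 → k ∈ P) :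
    y ∈ P ∧ tq u x ∈ P :=
  mem_of_rel hcore (rel_of_trip h) P Q O hPQ hQO hxP hOx nQ nO hV1 hV2 hcard hker h3

end Cfsg.Agent.H888.U33
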